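import Groth.Agent.AmpleLib.GenLocus
import Groth.Agent.AmpleLib.Pullback
import Groth.Agent.QCohLib.Exact
import Groth.Agent.DCohLib.Pullback
import Groth.Agent.SiteBase.Projection
import Groth.Prelude.Def_Frob
import Groth.Prelude.Def_FlatMod2

/-!
# Frobenius pull-backs of extensions of the structure module by free modules
-/

set_option autoImplicit false
set_option backward.isDefEq.respectTransparency false
set_option backward.isDefEq.respectTransparency.types false
set_option linter.style.haveILetI false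
set_option maxHeartbeats 2000000
set_option synthInstance.maxHeartbeats 400000

universe u

open CategoryTheory CategoryTheory.Limits AlgebraicGeometry TopologicalSpace Opposite
open Groth.Agent.QCohLib CategoryTheory.Abelian

noncomputable section

namespace Groth.Agent.FrobExtLib

variable {X : Scheme.{u}}

/-- Projections of a free module. -/
def proj (n : ℕ) (j : Fin n) : FlatMod.freeMod X n ⟶ Coh.structureModule X :=
  Sigma.desc fun l => if l = j then 𝟙 _ else 0

theorem ι_proj (n : ℕ) (l j : Fin n) :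
    Sigma.ι (fun _ : Fin n => Coh.structureModule X) l ≫ proj n j = if l = j then 𝟙 _ else 0 :=
  Sigma.ι_desc _ _

theorem sum_proj_ι (n : ℕ) :
    ∑ j, proj n j ≫ Sigma.ι (fun _ : Fin n => Coh.structureModule X) j = 𝟙 (FlatMod.freeMod X n) := by
  refine Sigma.hom_ext _ _ fun l => ?_
  rw [Preadditive.comp_sum, Finset.sum_eq_single l (fun j _ hj => by rw [← Category.assoc, ι_proj, if_neg hj.symm, zero_comp])
    (fun h => absurd (Finset.mem_univ l) h), ← Category.assoc, ι_proj, if_pos rfl, Category.id_comp, Category.comp_id]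

theorem comp_extClass_of_hom {C : Type*} [Category C] [Abelian C] [HasExt C] {S T : ShortComplex C}
    (hS : S.ShortExact) (hT : T.ShortExact) (φ : S ⟶ T) {Z : C} (x : Ext Z S.X₃ 0) (x' : Ext Z T.X₃ 0)
    (hx : x.comp (Ext.mk₀ φ.τ₃) (add_zero 0) = x') :
    x'.comp hT.extClass (zero_add 1) = (x.comp hS.extClass (zero_add 1)).comp (Ext.mk₀ φ.τ₁) (add_zero 1) := by
  subst hx
  rw [Ext.comp_assoc_of_second_deg_zero, Ext.comp_assoc_of_third_deg_zero,
    ShortComplex.ShortExact.extClass_naturality hS hT φ]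

variable (p : ℕ) [hp : Fact p.Prime] [FrobSch.IsCharP X p]

local notation "F^*" => Scheme.Modules.pullback (FrobSch.frob X p)
local notation "FAdj" => Scheme.Modules.pullbackPushforwardAdjunction (FrobSch.frob X p)

/-- The Frobenius-semilinear unit on underlying abelian sheaves. -/
def eta (M : X.Modules) : (toAbF X).obj M ⟶ (toAbF X).obj (F^*.obj M) :=
  ⟨{ app := fun U => AddCommGrpCat.ofHom (X := (Γ(M, U.unop) : Type u)) (Y := (Γ(F^*.obj M, U.unop) : Type u))
        (((FAdj).unit.app M).app U.unop).hom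
     naturality := fun U V i => by
       ext s
       exact ConcreteCategory.congr_hom (((FAdj).unit.app M).mapPresheaf.naturality i) s }⟩

theorem eta_naturality {M N : X.Modules} (g : M ⟶ N) :
    (toAbF X).map g ≫ eta p N = eta p M ≫ (toAbF X).map (F^*.map g) := by
  refine ObjectProperty.hom_ext _ (NatTrans.ext (funext fun U => ConcreteCategory.hom_ext _ _ fun s => ?_))
  exact ConcreteCategory.congr_hom (congr($((FAdj).unit.naturality g).app U.unop)) s

/-- The `p`-th power map. -/
def powAb : (toAbF X).obj (Coh.structureModule X) ⟶ (toAbF X).obj (Coh.structureModule X) :=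
  eta p (Coh.structureModule X) ≫ (toAbF X).map (AmpleLib.pullO (FrobSch.frob X p)).hom

theorem powAb_app (U : X.Opens) (s : Γ(X, U)) : (powAb (X := X) p).hom.app (op U) s = s ^ p := by
  have h : (FAdj).unit.app (Coh.structureModule X) ≫
      (Scheme.Modules.pushforward (FrobSch.frob X p)).map (AmpleLib.pullO (FrobSch.frob X p)).hom =
      (SheafOfModules.unitToPushforwardObjUnit (FrobSch.frob X p).toRingCatSheafHom :
        Coh.structureModule X ⟶ (Scheme.Modules.pushforward (FrobSch.frob X p)).obj (Coh.structureModule X)) :=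
    (Adjunction.homEquiv_unit _ _ _ _).symm.trans (Equiv.apply_symm_apply _ _)
  exact ConcreteCategory.congr_hom (congrArg (fun t => Scheme.Modules.Hom.app t U) h) s

/-- The Frobenius pull-back of a free module. -/
def pullFree (n : ℕ) : FlatMod.freeMod X n ≅ F^*.obj (FlatMod.freeMod X n) where
  hom := Sigma.desc fun l => (AmpleLib.pullO (FrobSch.frob X p)).inv ≫
    F^*.map (Sigma.ι (fun _ : Fin n => Coh.structureModule X) l)
  inv := ∑ j, F^*.map (proj n j) ≫ (AmpleLib.pullO (FrobSch.frob X p)).hom ≫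
    Sigma.ι (fun _ : Fin n => Coh.structureModule X) j
  hom_inv_id := by
    refine Sigma.hom_ext _ _ fun l => ?_
    rw [Sigma.ι_desc_assoc, Preadditive.comp_sum, Category.comp_id, Finset.sum_eq_single l]
    · rw [Category.assoc, ← F^*.map_comp_assoc, ι_proj, if_pos rfl, F^*.map_id, Category.id_comp,
        Iso.inv_hom_id_assoc]
    · intro j _ hj
      rw [Category.assoc, ← F^*.map_comp_assoc, ι_proj, if_neg hj.symm, Functor.map_zero, zero_comp, comp_zero]
    · exact fun h => absurd (Finset.mem_univ l) h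
  inv_hom_id := by
    rw [Preadditive.sum_comp]
    simp only [Category.assoc, Sigma.ι_desc, Iso.hom_inv_id_assoc, ← F^*.map_comp, ← F^*.map_sum, sum_proj_ι,
      F^*.map_id]

theorem pullFree_inv_proj (n : ℕ) (j : Fin n) :
    (pullFree p n).inv ≫ proj n j = F^*.map (proj n j) ≫ (AmpleLib.pullO (FrobSch.frob X p)).hom := by
  show (∑ l : Fin n, _) ≫ _ = _
  rw [Preadditive.sum_comp, Finset.sum_eq_single j]
  · simp [ι_proj]
  · intro l _ hl
    simp [ι_proj, hl]
  · exact fun h => absurd (Finset.mem_univ j) h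

/-- The section one. -/
def one₀ : Coh.HH X (Coh.structureModule X) 0 :=
  (Sheaf.H.equiv₀ ((toAbF X).obj (Coh.structureModule X)) isTerminalTop).symm (1 : Γ(X, ⊤))

omit hp in
/-- `E` is an extension of the structure module by a free module with the given classes. -/
def IsExt (n : ℕ) (E : X.Modules) (c : Fin n → Coh.HH X (Coh.structureModule X) 1) : Prop :=
  ∃ (i : FlatMod.freeMod X n ⟶ E) (q : E ⟶ Coh.structureModule X) (w : i ≫ q = 0)
    (hS : (ShortComplex.mk i q w).ShortExact), ∀ j,
      Sheaf.H.map ((toAbF X).map (proj n j)) 1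
        (one₀.comp (toAb_shortExact hS).extClass (zero_add 1)) = c j

omit hp in
theorem exists_isExt {n : ℕ} {E : X.Modules} (S : ShortComplex X.Modules) (hS : S.ShortExact)
    (e₁ : S.X₁ ≅ FlatMod.freeMod X n) (e₂ : S.X₂ ≅ E) (e₃ : S.X₃ ≅ Coh.structureModule X) :
    ∃ c, IsExt n E c := by
  have w : (e₁.inv ≫ S.f ≫ e₂.hom) ≫ (e₂.inv ≫ S.g ≫ e₃.hom) = 0 := by simp
  exact ⟨_, _, _, w, ShortComplex.shortExact_of_iso (ShortComplex.isoMk e₁ e₂ e₃ (by simp) (by simp)) hS, fun j => rfl⟩

theorem IsExt.pull {n : ℕ} {E : X.Modules} {c : Fin n → Coh.HH X (Coh.structureModule X) 1} (h : IsExt n E c) :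
    IsExt n (F^*.obj E) fun j => Sheaf.H.map (powAb (X := X) p) 1 (c j) := by
  obtain ⟨i, q, w, hS, hc⟩ := h
  let T := (ShortComplex.mk i q w).map F^*
  have hflat : FlatMod.IsFlat (Coh.structureModule X) :=
    (DCohLib.isFlat_iff _).2 (SiteBase.ExtZeroPre.isFlat_unit X.sheaf)
  have hT : T.ShortExact := DCohLib.shortExact_pullback_of_isFlat _ _ hS hflat
  let P := AmpleLib.pullO (FrobSch.frob X p)
  have w' : ((pullFree p n).hom ≫ F^*.map i) ≫ (F^*.map q ≫ P.hom) = 0 := by
    rw [Category.assoc, ← F^*.map_comp_assoc, w, F^*.map_zero, zero_comp, comp_zero]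
  have hS' : (ShortComplex.mk _ _ w').ShortExact :=
    ShortComplex.shortExact_of_iso (ShortComplex.isoMk (S₁ := T) (S₂ := ShortComplex.mk _ _ w')
      (pullFree p n).symm (Iso.refl _) P (by simp [T]) (by simp [T])) hT
  refine ⟨_, _, w', hS', fun j => ?_⟩
  let τ₁ : (toAbF X).obj (FlatMod.freeMod X n) ⟶ (toAbF X).obj (FlatMod.freeMod X n) :=
    eta p _ ≫ (toAbF X).map (pullFree p n).inv
  have hp1 : τ₁ ≫ (toAbF X).map (proj n j) = (toAbF X).map (proj n j) ≫ powAb p := by
    rw [Category.assoc, ← Functor.map_comp, pullFree_inv_proj, Functor.map_comp, ← Category.assoc,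
      ← eta_naturality, Category.assoc]
    rfl
  let φ : (ShortComplex.mk i q w).map (toAbF X) ⟶ (ShortComplex.mk _ _ w').map (toAbF X) :=
    { τ₁ := τ₁
      τ₂ := eta p E
      τ₃ := powAb p
      comm₁₂ := by
        show τ₁ ≫ (toAbF X).map _ = (toAbF X).map i ≫ eta p E
        rw [eta_naturality, Category.assoc, ← Functor.map_comp, Iso.inv_hom_id_assoc]
      comm₂₃ := by
        show eta p E ≫ (toAbF X).map _ = (toAbF X).map q ≫ powAb p
        rw [powAb, ← Category.assoc ((toAbF X).map q), eta_naturality, Category.assoc, ← Functor.map_comp] }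
  have hone : (one₀ (X := X)).comp (Ext.mk₀ (powAb (X := X) p)) (add_zero 0) = one₀ := by
    have := Sheaf.H.equiv₀_symm_naturality (hT := isTerminalTop) (f := powAb (X := X) p) (x := (1 : Γ(X, ⊤)))
    rw [Sheaf.H.map_apply] at this
    refine (this.trans ?_)
    show (Sheaf.H.equiv₀ _ _).symm ((powAb (X := X) p).hom.app (op ⊤) (1 : Γ(X, ⊤))) = _
    rw [powAb_app, one_pow]
    rfl
  have key : (one₀ (X := X)).comp (toAb_shortExact hS').extClass (zero_add 1) =
      (one₀.comp (toAb_shortExact hS).extClass (zero_add 1)).comp (Ext.mk₀ τ₁) (add_zero 1) :=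
    comp_extClass_of_hom (toAb_shortExact (X := X) hS) (toAb_shortExact (X := X) hS') φ one₀ one₀ hone
  rw [key, Sheaf.H.map_apply, Ext.comp_assoc_of_second_deg_zero, Ext.mk₀_comp_mk₀, hp1]
  show _ = Sheaf.H.map (powAb (X := X) p) 1 (c j)
  rw [← hc j, Sheaf.H.map_apply,
    Sheaf.H.map_apply, Ext.comp_assoc_of_second_deg_zero, Ext.mk₀_comp_mk₀]

omit hp in
theorem IsExt.free {n : ℕ} {E : X.Modules} (h : IsExt n E fun _ => 0) : Nonempty (E ≅ FlatMod.freeMod X (n + 1)) := by
  obtain ⟨i, q, w, hS, hc⟩ := h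
  let S := ShortComplex.mk i q w
  have hS' := toAb_shortExact hS
  let δ : Coh.HH X (FlatMod.freeMod X n) 1 := one₀.comp hS'.extClass (zero_add 1)
  have hδ : δ = 0 := by
    have h1 : (toAbF X).map (∑ j, proj n j ≫ Sigma.ι (fun _ : Fin n => Coh.structureModule X) j) =
        𝟙 ((toAbF X).obj (FlatMod.freeMod X n)) := by rw [sum_proj_ι, CategoryTheory.Functor.map_id]
    rw [← Ext.comp_mk₀_id δ, ← h1, Functor.map_sum, Ext.mk₀_sum, Ext.comp_sum]
    refine Finset.sum_eq_zero fun j _ => ?_
    have hj : δ.comp (Ext.mk₀ ((toAbF X).map (proj n j))) (add_zero 1) = 0 := (Sheaf.H.map_apply _ _).symm.trans (hc j)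
    rw [Functor.map_comp, ← Ext.mk₀_comp_mk₀, ← Ext.comp_assoc_of_second_deg_zero, hj, Ext.zero_comp]
  obtain ⟨y, hy⟩ := Ext.covariant_sequence_exact₃ _ hS' one₀ (zero_add 1) hδ
  let s : Coh.structureModule X ⟶ E :=
    DCohLib.secHom E (Sheaf.H.equiv₀ ((toAbF X).obj E) isTerminalTop y)
  have hs : s ≫ q = 𝟙 _ := by
    refine DCohLib.hom_unit_ext ?_
    show q.app ⊤ (s.app ⊤ (1 : Γ(X, ⊤))) = (1 : Γ(X, ⊤))
    rw [show s.app ⊤ (1 : Γ(X, ⊤)) = Sheaf.H.equiv₀ ((toAbF X).obj E) isTerminalTop y from AmpleLib.sec_secHom _]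
    have := Sheaf.H.equiv₀_symm_naturality (hT := isTerminalTop) (f := (toAbF X).map q) (x := Sheaf.H.equiv₀ ((toAbF X).obj E) isTerminalTop y)
    have h2 := congrArg (Sheaf.H.map ((toAbF X).map q) 0)
      ((Sheaf.H.equiv₀ ((toAbF X).obj E) isTerminalTop).symm_apply_apply y)
    exact Equiv.injective _ (this.symm.trans (h2.trans ((Sheaf.H.map_apply _ _).trans hy)))
  let sp : S.Splitting := ShortComplex.Splitting.ofExactOfSection S hS.exact s hs hS.mono_f
  let ι' := fun j => Sigma.ι (fun _ : Fin (n + 1) => Coh.structureModule X) j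
  refine ⟨⟨sp.r ≫ Sigma.desc (fun j : Fin n => ι' j.castSucc) + q ≫ ι' (Fin.last n),
    Sigma.desc fun l => Fin.lastCases (motive := fun _ => Coh.structureModule X ⟶ E) s
      (fun j => Sigma.ι (fun _ : Fin n => Coh.structureModule X) j ≫ i) l, ?_, ?_⟩⟩
  · have h1 : Sigma.desc (fun j : Fin n => ι' j.castSucc) ≫ Sigma.desc (fun l => Fin.lastCases
        (motive := fun _ => Coh.structureModule X ⟶ E) s (fun j => Sigma.ι (fun _ : Fin n => Coh.structureModule X) j ≫ i) l) = i := by
      refine Sigma.hom_ext _ _ fun j => ?_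
      simp [ι']
    rw [Preadditive.add_comp, Category.assoc, h1, Category.assoc]
    simp only [ι', Sigma.ι_desc, Fin.lastCases_last]
    exact sp.id
  · refine Sigma.hom_ext _ _ fun l => ?_
    rw [Sigma.ι_desc_assoc, Category.comp_id, Preadditive.comp_add]
    induction l using Fin.lastCases with
    | last =>
      simp only [Fin.lastCases_last]
      rw [reassoc_of% (show s ≫ sp.r = 0 from sp.s_r), zero_comp, zero_add, reassoc_of% hs]
    | cast j =>
      simp only [Fin.lastCases_castSucc, Category.assoc]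
      rw [reassoc_of% (show i ≫ sp.r = 𝟙 _ from sp.f_r), reassoc_of% w, zero_comp, comp_zero, add_zero]
      simp [ι']

end Groth.Agent.FrobExtLib
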